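import Mathlib

/-!
# Adic completion of quotients with bounded torsion
-/

open AdicCompletion

namespace GrothLib.BddTors

universe u

variable {A : Type u} [CommRing A] (a : A)

set_option quotPrecheck false in
local notation "I" => Ideal.span (singleton a : Set A)


variable {M : Type u} [AddCommGroup M] [Module A M] {M' : Type u} [AddCommGroup M'] [Module A M']

theorem mem_pow_smul {n : ℕ} {m : M} :
    m ∈ (I ^ n • ⊤ : Submodule A M) ↔ ∃ y, a ^ n • y = m := by
  rw [Ideal.span_singleton_pow, Submodule.ideal_span_singleton_smul, Submodule.mem_smul_pointwise_iff_exists]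
  simp

theorem cauchy_diff (f : AdicCauchySequence I M) {n m : ℕ} (h : n ≤ m) :
    ∃ y, a ^ n • y = f m - f n := by
  rw [← mem_pow_smul, ← Submodule.Quotient.eq]
  exact AdicCauchySequence.mk_eq_mk h f

variable {x : A} (g : M →ₗ[A] M') (hker : ∀ m, g m = 0 ↔ ∃ z, x • z = m)
  (hx : ∀ m : M, x • m = 0 → m = 0) {N : ℕ} (hN : ∀ y : M', (∃ k, a ^ k • y = 0) → a ^ N • y = 0)

include hker hx hN in
theorem key {n : ℕ} {y z : M} (h : a ^ (n + N) • y = x • z) : ∃ w, z = a ^ n • w := by
  have h0 : g (a ^ (n + N) • y) = 0 := (hker _).2 ⟨z, h.symm⟩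
  rw [map_smul] at h0
  have h1 : g (a ^ N • y) = 0 := by rw [map_smul]; exact hN _ ⟨_, h0⟩
  obtain ⟨w, hw⟩ := (hker _).1 h1
  refine ⟨w, sub_eq_zero.1 (hx _ ?_)⟩
  rw [smul_sub, ← h, smul_comm x, hw, ← mul_smul, ← pow_add, sub_self]

include hker hx hN in
theorem smul_injective (f : AdicCompletion I M) (hf : x • f = 0) : f = 0 := by
  obtain ⟨f, rfl⟩ := AdicCompletion.mk_surjective I M f
  ext n
  have h := congrArg (fun q => q.val (n + N)) hf
  simp only [AdicCompletion.val_smul_apply, AdicCompletion.mk_apply_coe, Submodule.mkQ_apply,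
    ← Submodule.Quotient.mk_smul, AdicCompletion.val_zero_apply, Submodule.Quotient.mk_eq_zero] at h
  obtain ⟨y, hy⟩ := (mem_pow_smul a).1 h
  obtain ⟨w, hw⟩ := key a g hker hx hN hy
  obtain ⟨d, hd⟩ := cauchy_diff a f (show n ≤ n + N by omega)
  simp only [AdicCompletion.mk_apply_coe, Submodule.mkQ_apply, AdicCompletion.val_zero_apply,
    Submodule.Quotient.mk_eq_zero, mem_pow_smul]
  exact ⟨w - d, by rw [smul_sub, hd, ← hw, sub_sub_cancel]⟩

include hker hx hN in
theorem exists_smul_eq_of_map_eq_zero (hg : Function.Surjective g) (f : AdicCompletion I M)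
    (hf : AdicCompletion.map I g f = 0) : ∃ h, x • h = f := by
  obtain ⟨f, rfl⟩ := AdicCompletion.mk_surjective I M f
  have hd : ∀ n, ∃ y z, f n - a ^ n • y = x • z := by
    intro n
    have h := congrArg (fun q => q.val n) hf
    simp only [AdicCompletion.map_mk, AdicCompletion.mk_apply_coe, Submodule.mkQ_apply,
      AdicCompletion.val_zero_apply, Submodule.Quotient.mk_eq_zero, mem_pow_smul] at h
    obtain ⟨y', hy'⟩ := h
    obtain ⟨y, rfl⟩ := hg y'
    obtain ⟨z, hz⟩ := (hker (f n - a ^ n • y)).1 (by rw [map_sub, map_smul, hy']; exact sub_self _)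
    exact ⟨y, z, hz.symm⟩
  choose y z hz using hd
  have hcauchy : ∀ n, z (n + N) ≡ z (n + 1 + N) [SMOD (I ^ n • ⊤ : Submodule A M)] := by
    intro n
    rw [SModEq.sub_mem, mem_pow_smul]
    obtain ⟨d, hd⟩ := cauchy_diff a f (show n + N ≤ n + 1 + N by omega)
    obtain ⟨w, hw⟩ := key a g hker hx hN (n := n)
      (y := a • y (n + 1 + N) - d - y (n + N)) (z := z (n + N) - z (n + 1 + N)) (by
        rw [smul_sub x, ← hz, ← hz, smul_sub, smul_sub, hd, ← mul_smul, ← pow_succ,
          show n + N + 1 = n + 1 + N by omega]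
        abel)
    exact ⟨w, hw.symm⟩
  refine ⟨AdicCompletion.mk I M (AdicCauchySequence.mk I M (fun n => z (n + N)) hcauchy), ?_⟩
  ext n
  simp only [AdicCompletion.val_smul_apply, AdicCompletion.mk_apply_coe, Submodule.mkQ_apply,
    AdicCauchySequence.mk, ← Submodule.Quotient.mk_smul, Submodule.Quotient.eq, mem_pow_smul]
  obtain ⟨d, hd⟩ := cauchy_diff a f (show n ≤ n + N by omega)
  refine ⟨d - a ^ N • y (n + N), ?_⟩
  rw [← hz, smul_sub, hd, ← mul_smul, ← pow_add]
  abel

end GrothLib.BddTors
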